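import Cfsg.Agent.Chev.SubHom.F4
import Cfsg.Agent.Chev.Springer.TorusAt
import Mathlib.GroupTheory.Perm.Cycle.Type

/-! Orders, multiplicative orders and cyclotomic values for the prime graph of `F4(q)`. -/

set_option autoImplicit false

open Cfsg.Lie

namespace Cfsg.Lib.F4Graph

open Cfsg.Lib.Chev Polynomial

/-- The values of the cyclotomic polynomials needed. -/
theorem cyc_eval (x : ℤ) :
    (cyclotomic 3 ℤ).eval x = x ^ 2 + x + 1 ∧ (cyclotomic 4 ℤ).eval x = x ^ 2 + 1 ∧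
    (cyclotomic 6 ℤ).eval x = x ^ 2 - x + 1 ∧ (cyclotomic 8 ℤ).eval x = x ^ 4 + 1 ∧
    (cyclotomic 12 ℤ).eval x = x ^ 4 - x ^ 2 + 1 := by
  have e2 : (cyclotomic 2 ℤ).eval x = x + 1 := by simp [cyclotomic_two]
  have ex : ∀ n : ℕ, 2 ∣ n → ∀ y : ℤ, (cyclotomic (n * 2) ℤ).eval y = (cyclotomic n ℤ).eval (y ^ 2) := fun n hn y => by
    rw [← cyclotomic_expand_eq_cyclotomic (p := 2) Nat.prime_two hn ℤ, expand_eval]
  have e4 : ∀ y : ℤ, (cyclotomic 4 ℤ).eval y = y ^ 2 + 1 := fun y => by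
    rw [show (4 : ℕ) = 2 * 2 from rfl, ex 2 dvd_rfl]; simp [cyclotomic_two]
  have e6 : ∀ y : ℤ, (cyclotomic 6 ℤ).eval y = y ^ 2 - y + 1 := fun y => by simp [cyclotomic_six]
  refine ⟨by simp [cyclotomic_three], e4 x, e6 x, ?_, ?_⟩
  · rw [show (8 : ℕ) = 4 * 2 from rfl, ex 4 ⟨2, rfl⟩, e4]; ring
  · rw [show (12 : ℕ) = 6 * 2 from rfl, ex 6 ⟨3, rfl⟩, e6]; ring

section

variable {q s : ℕ} [hs : Fact s.Prime]

theorem dvd_pow_sub_one_iff (hq : 1 ≤ q) (d : ℕ) : s ∣ q ^ d - 1 ↔ orderOf (q : ZMod s) ∣ d := by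
  rw [orderOf_dvd_iff_pow_eq_one, ← ZMod.natCast_eq_zero_iff, Nat.cast_sub (Nat.one_le_pow _ _ hq), Nat.cast_pow,
    Nat.cast_one, sub_eq_zero]

theorem not_dvd_orderOf {e : ℕ} (he : orderOf (q : ZMod s) = e) (he0 : 0 < e) : ¬ s ∣ e ∧ e < s := by
  have hq0 : (q : ZMod s) ≠ 0 := fun h => by
    rw [h] at he
    simp at he
    omega
  have h1 : e ∣ s - 1 := he ▸ ZMod.orderOf_dvd_card_sub_one hq0
  have h2 := Nat.le_of_dvd (by have := hs.out.two_le; omega) h1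
  have hlt : e < s := by have := hs.out.two_le; omega
  exact ⟨fun h => absurd (Nat.le_of_dvd he0 h) (by omega), hlt⟩

theorem dvd_cyc {e N : ℕ} (he : orderOf (q : ZMod s) = e) (he0 : 0 < e)
    (hN : (cyclotomic e ℤ).eval (q : ℤ) = N) : s ∣ N := by
  have hne : ((e : ℕ) : ZMod s) ≠ 0 := fun h => (not_dvd_orderOf he he0).1 ((ZMod.natCast_eq_zero_iff _ _).1 h)
  haveI : NeZero (e : ZMod s) := ⟨hne⟩
  have h : IsRoot (cyclotomic e (ZMod s)) (q : ZMod s) :=
    isRoot_cyclotomic_iff.2 (he ▸ IsPrimitiveRoot.orderOf _)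
  rw [IsRoot, ← map_cyclotomic e (Int.castRingHom (ZMod s)), ← Int.cast_natCast q, eval_intCast_map, Int.cast_id,
    hN, eq_intCast, Int.cast_natCast] at h
  exact (ZMod.natCast_eq_zero_iff _ _).1 h

theorem orderOf_of_dvd_cyc {e N : ℕ} (hse : ¬ s ∣ e) (hN : (cyclotomic e ℤ).eval (q : ℤ) = N) (h : s ∣ N) :
    orderOf (q : ZMod s) = e := by
  haveI : NeZero (e : ZMod s) := ⟨fun h => hse ((ZMod.natCast_eq_zero_iff _ _).1 h)⟩
  refine (IsPrimitiveRoot.eq_orderOf (k := e) ?_).symm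
  rw [← isRoot_cyclotomic_iff, IsRoot, ← map_cyclotomic e (Int.castRingHom (ZMod s)), ← Int.cast_natCast q,
    eval_intCast_map, Int.cast_id, hN, eq_intCast, Int.cast_natCast]
  exact (ZMod.natCast_eq_zero_iff _ _).2 h

end

variable {F : Type*} [Field F] [Fintype F]

theorem card_of_inj {D : ChevalleyDatum} {C : Cert} (S : Struct D C) (hN : okNeg D = true) {Ls : List Lev}
    {ds : List ℕ} (h : okPoincare C Ls ds = true) (hker : (Ok.tG D F).ker = ⊥) :
    Nat.card ↥(D.group F) = Fintype.card F ^ (D.nroots / 2) * (ds.map fun e => Fintype.card F ^ e - 1).prod := by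
  classical
  have hH : 1 * Nat.card ↥(D.diagonalSubgroup F) = (Fintype.card F - 1) ^ D.rank := by
    rw [one_mul, S.ok.diagonalSubgroup_eq,
      ← Nat.card_congr (MonoidHom.ofInjective ((MonoidHom.ker_eq_bot_iff _).1 hker)).toEquiv, Nat.card_fun,
      Nat.card_units, Nat.card_eq_fintype_card, Nat.card_fin]
  simpa using S.order_formula hN h rfl hH

theorem card_F4 : Nat.card ↥(chevF4.group F) =
    Fintype.card F ^ 24 * ([2, 6, 8, 12].map fun e => Fintype.card F ^ e - 1).prod :=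
  card_of_inj F4.struct okNeg_F4 F4.poincare (St.torus_ker_trivial F4.ok St.foldTorus_F4)

theorem card_G2 : Nat.card ↥(chevG2.group F) =
    Fintype.card F ^ 6 * ([2, 6].map fun e => Fintype.card F ^ e - 1).prod :=
  card_of_inj G2.struct okNeg_G2 G2.poincare (St.torus_ker_trivial G2.ok St.foldTorus_G2)

theorem card_B2 [CharP F 2] : Nat.card ↥(chevB2.group F) =
    Fintype.card F ^ 4 * ([2, 4].map fun e => Fintype.card F ^ e - 1).prod :=
  card_of_inj B2.struct okNeg_B2 B2.poincare (F4.subB2 F).hker'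

/-- Odd primes dividing the order of `F4(q)`, `q` even. -/
theorem order_cases {n s : ℕ} (hF : Fintype.card F = 2 ^ n) (hs : s.Prime) (hs2 : s ≠ 2)
    (hG : s ∣ Nat.card ↥(chevF4.group F)) :
    orderOf ((Fintype.card F : ℕ) : ZMod s) ∈ ({1, 2, 3, 4, 6, 8, 12} : Finset ℕ) := by
  haveI := Fact.mk hs
  have hq : 1 ≤ Fintype.card F := Fintype.card_pos
  rw [card_F4] at hG
  have hno : ¬ s ∣ Fintype.card F ^ 24 := by
    rw [hF, ← pow_mul]
    exact fun h => hs2 ((Nat.prime_dvd_prime_iff_eq hs Nat.prime_two).1 (hs.dvd_of_dvd_pow h))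
  have h := (hs.dvd_mul.1 hG).resolve_left hno
  simp only [List.map_cons, List.map_nil, List.prod_cons, List.prod_nil, mul_one] at h
  have key : ∀ d, 0 < d → s ∣ Fintype.card F ^ d - 1 → orderOf ((Fintype.card F : ℕ) : ZMod s) ∈ Nat.divisors d :=
    fun d hd h => Nat.mem_divisors.2 ⟨(dvd_pow_sub_one_iff hq d).1 h, hd.ne'⟩
  rcases hs.dvd_mul.1 h with h | h
  · exact (by decide : Nat.divisors 2 ⊆ ({1, 2, 3, 4, 6, 8, 12} : Finset ℕ)) (key 2 two_pos h)
  rcases hs.dvd_mul.1 h with h | h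
  · exact (by decide : Nat.divisors 6 ⊆ ({1, 2, 3, 4, 6, 8, 12} : Finset ℕ)) (key 6 (by norm_num) h)
  rcases hs.dvd_mul.1 h with h | h
  · exact (by decide : Nat.divisors 8 ⊆ ({1, 2, 3, 4, 6, 8, 12} : Finset ℕ)) (key 8 (by norm_num) h)
  · exact (by decide : Nat.divisors 12 ⊆ ({1, 2, 3, 4, 6, 8, 12} : Finset ℕ)) (key 12 (by norm_num) h)

theorem orderOf_of_dvd {G : Type*} [Group G] [Finite G] {x : G} {m : ℕ} (h : m ∣ orderOf x) :
    ∃ y : G, orderOf y = m :=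
  ⟨x ^ (orderOf x / m), orderOf_pow_orderOf_div (orderOf_pos x).ne' h⟩

theorem exists_of_cyclic {G : Type*} [Group G] [Finite G] {H : Subgroup G} (hc : IsCyclic ↥H) {m : ℕ}
    (h : m ∣ Nat.card ↥H) : ∃ y : G, orderOf y = m := by
  obtain ⟨g, hg⟩ := IsCyclic.exists_ofOrder_eq_natCard (α := ↥H)
  refine orderOf_of_dvd (x := (g : G)) ?_
  rwa [Subgroup.orderOf_coe, hg]

end Cfsg.Lib.F4Graph
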