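import Cfsg.Agent.Chev.F4Graph.Arith
import Cfsg.Agent.Chev.SL2
import Cfsg.Agent.Classical.Misc.SLTwoTori

/-! The edges of the prime graph of `F4(q)`, `q` even. -/

set_option autoImplicit false

open Cfsg.Lie

namespace Cfsg.Lib.F4Graph

open Cfsg.Lib.Chev Polynomial

variable {F : Type*} [Field F] [Fintype F] [CharP F 2]

/-- The homomorphism from `SL₂` onto a root subgroup and its opposite is injective in characteristic two. -/
theorem sl2_injective {D : ChevalleyDatum} {C : Cert} (S : Struct D C) (hN : okNeg D = true) {r : ℕ}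
    (hr : r < D.nroots) (hp : D.nroots / 2 ≤ r) (φ : Matrix.SpecialLinearGroup (Fin 2) F →* GL D.Idx F)
    (h1 : ∀ t, φ (uM t) = S.ok.xG r t) (h2 : ∀ t, φ (lM t) = S.ok.xG (D.neg r) t) : Function.Injective φ := by
  have hneg : ∀ t : F, S.ok.xG (D.neg r) t ∈ D.negUnipotent F := fun t => by
    refine Subgroup.subset_closure ⟨D.neg r, _, S.isNeg_iff.2 ?_, S.ok.val_xG _ _⟩
    exact S.neg_lt_half hr hp
  have huinv : ∀ t : F, (uM t)⁻¹ = uM t := fun t => by
    refine inv_eq_of_mul_eq_one_right (mat_inj ?_)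
    rw [mat_mul, mat_uM, mat_one]
    ext i j; fin_cases i <;> fin_cases j <;> simp [CharTwo.add_self_eq_zero]
  have hwinv : (wM : Matrix.SpecialLinearGroup (Fin 2) F)⁻¹ = wM := by
    refine inv_eq_of_mul_eq_one_right (mat_inj ?_)
    rw [mat_mul, mat_wM, mat_one]
    ext i j; fin_cases i <;> fin_cases j <;> simp [CharTwo.neg_eq]
  have conjU : ∀ (t : F) (g : Matrix.SpecialLinearGroup (Fin 2) F), mat (uM t * g * (uM t)⁻¹) =
      !![mat g 0 0 + t * mat g 1 0, (mat g 0 0 + t * mat g 1 0) * t + (mat g 0 1 + t * mat g 1 1);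
        mat g 1 0, mat g 1 0 * t + mat g 1 1] := fun t g => by
    rw [huinv, mat_mul, mat_mul, mat_uM]
    conv_lhs => rw [Matrix.eta_fin_two (mat g), Matrix.mul_fin_two, Matrix.mul_fin_two]
    simp
  have conjW : ∀ g : Matrix.SpecialLinearGroup (Fin 2) F, mat (wM * g * wM⁻¹) 1 0 = mat g 0 1 := fun g => by
    rw [hwinv, mat_mul, mat_mul, mat_wM]
    conv_lhs => rw [Matrix.eta_fin_two (mat g), Matrix.mul_fin_two, Matrix.mul_fin_two]
    simp [CharTwo.neg_eq]
  rw [← MonoidHom.ker_eq_bot_iff, Subgroup.eq_bot_iff_forall]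
  intro g hg
  have hnorm : ∀ (y g : Matrix.SpecialLinearGroup (Fin 2) F), g ∈ φ.ker → y * g * y⁻¹ ∈ φ.ker :=
    fun y g hg => (MonoidHom.normal_ker φ).conj_mem g hg y
  have hc0 : ∀ g : Matrix.SpecialLinearGroup (Fin 2) F, g ∈ φ.ker → mat g 1 0 = 0 := by
    intro g hg
    by_contra hc
    obtain ⟨g', hg'⟩ : ∃ x, x = uM (mat g 0 0 / mat g 1 0) * g * (uM (mat g 0 0 / mat g 1 0))⁻¹ := ⟨_, rfl⟩
    have hk : g' ∈ φ.ker := hg' ▸ hnorm _ _ hg
    have ha : mat g' 0 0 = 0 := by
      rw [hg', conjU]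
      simp [div_mul_cancel₀ _ hc, CharTwo.add_self_eq_zero]
    have hd := mat_det g'
    rw [ha] at hd
    have hbc : mat g' 0 1 * mat g' 1 0 = 1 := by
      have e : -(mat g' 0 1 * mat g' 1 0) = mat g' 0 1 * mat g' 1 0 := CharTwo.neg_eq _
      rw [← e]; linear_combination hd
    have key : g' * uM 1 * g'⁻¹ = lM (mat g' 1 0 ^ 2) := by
      rw [mul_inv_eq_iff_eq_mul]
      refine mat_inj ?_
      rw [mat_mul, mat_mul, mat_uM, mat_lM, Matrix.eta_fin_two (mat g'), Matrix.mul_fin_two, Matrix.mul_fin_two, ha]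
      ext i j
      fin_cases i <;> fin_cases j <;> simp
      linear_combination -(mat g' 1 0) * hbc
    have h := congrArg φ key
    rw [map_mul, map_mul, map_inv, hk, one_mul, inv_one, mul_one, h1, h2] at h
    have h3 : S.ok.xG r (1 : F) ∈ D.borelSubgroup F ⊓ D.negUnipotent F :=
      Subgroup.mem_inf.2 ⟨S.B_le_of (S.xG_mem_U hp hr 1), h ▸ hneg _⟩
    rw [S.B_inf_V hN, Subgroup.mem_bot] at h3
    exact one_ne_zero (S.xG_eq_one hr h3)
  have hc := hc0 g hg
  have hb := hc0 _ (hnorm wM g hg)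
  rw [conjW] at hb
  have hd := hc0 _ (hnorm wM _ (hnorm (uM 1) g hg))
  rw [conjW, conjU] at hd
  simp [hc, hb] at hd
  have had : mat g 0 0 = mat g 1 1 := by
    rw [← CharTwo.neg_eq (mat g 1 1)]
    exact eq_neg_of_add_eq_zero_left hd
  have h4 := mat_det g
  rw [hc, hb, ← had] at h4
  have ha1 : mat g 0 0 = 1 := by
    rcases mul_self_eq_mul_self_iff.1 (show mat g 0 0 * mat g 0 0 = 1 * 1 by linear_combination h4) with e | e
    · exact e
    · rw [e, CharTwo.neg_eq]
  refine mat_inj ?_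
  rw [mat_one, Matrix.eta_fin_two (mat g), hb, hc, ← had, ha1, Matrix.one_fin_two]

/-- The images of `G2` and `B2` commute with the rank one subgroup of the short root `1232`. -/
theorem commute_sl2 {φ : Matrix.SpecialLinearGroup (Fin 2) F →* GL chevF4.Idx F}
    (h3 : φ.range = Subgroup.closure (Set.range (F4.struct.ok.xG (F := F) 44) ∪
      Set.range (F4.struct.ok.xG (chevF4.neg 44))))
    {z : GL chevF4.Idx F}
    (hz : z ∈ (F4.subG2 F).phi.range ∨ z ∈ (F4.subB2 F).phi.range) (g : Matrix.SpecialLinearGroup (Fin 2) F) :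
    Commute (φ g) z := by
  set Cn := Subgroup.centralizer (Set.range (F4.struct.ok.xG (F := F) 44) ∪
    Set.range (F4.struct.ok.xG (chevF4.neg 44)))
  have hC : ∀ r ∈ List.flatten F4.inG2.cls ++ List.flatten F4.inB2.cls, ∀ t : F, F4.struct.ok.xG r t ∈ Cn := by
    intro r hr t
    refine Subgroup.mem_centralizer_iff.2 ?_
    rintro y (⟨u, rfl⟩ | ⟨u, rfl⟩)
    · exact (F4.comm_sub hr (s := 44) (by simp) t u).eq.symm
    · exact (F4.comm_sub hr (s := chevF4.neg 44) (by simp [F4.neg44]) t u).eq.symm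
  have hmemG : ∀ q, q < chevG2.nroots → ∀ x ∈ F4.inG2.clsAt q,
      x ∈ List.flatten F4.inG2.cls ++ List.flatten F4.inB2.cls := by decide +kernel
  have hmemB : ∀ q, q < chevB2.nroots → ∀ x ∈ F4.inB2.clsAt q,
      x ∈ List.flatten F4.inG2.cls ++ List.flatten F4.inB2.cls := by decide +kernel
  have hzC : z ∈ Cn := by
    rcases hz with hz | hz
    · exact (F4.subG2 F).range_le (fun r hr t => list_prod_mem fun y hy => by
        obtain ⟨x, hx, rfl⟩ := List.mem_map.1 hy
        exact hC x (hmemG r hr x hx) t) hz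
    · exact (F4.subB2 F).range_le (fun r hr t => list_prod_mem fun y hy => by
        obtain ⟨x, hx, rfl⟩ := List.mem_map.1 hy
        exact hC x (hmemB r hr x hx) t) hz
  have hg : φ g ∈ Subgroup.centralizer ({z} : Set (GL chevF4.Idx F)) := by
    have hle : φ.range ≤ Subgroup.centralizer ({z} : Set (GL chevF4.Idx F)) := by
      rw [h3, Subgroup.closure_le]
      intro y hy
      exact Subgroup.mem_centralizer_iff.2 fun w hw => by
        rw [Set.mem_singleton_iff.1 hw]; exact (Subgroup.mem_centralizer_iff.1 hzC y hy).symm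
    exact hle ⟨g, rfl⟩
  exact (Subgroup.mem_centralizer_iff.1 hg z rfl).symm

variable {n : ℕ} (hF : Fintype.card F = 2 ^ n)
include hF

/-- An element of prime order in one of the two small subgroups. -/
theorem exists_small {s : ℕ} (hs : s.Prime) (hs2 : s ≠ 2)
    (he : orderOf ((Fintype.card F : ℕ) : ZMod s) ∈ ({1, 2, 3, 4, 6} : Finset ℕ)) :
    ∃ z ∈ chevF4.group F, orderOf z = s ∧ (z ∈ (F4.subG2 F).phi.range ∨ z ∈ (F4.subB2 F).phi.range) := by
  haveI := Fact.mk hs
  have hq : 1 ≤ Fintype.card F := Fintype.card_pos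
  by_cases h4 : orderOf ((Fintype.card F : ℕ) : ZMod s) = 4
  · have hd : s ∣ Nat.card ↥(chevB2.group F) := by
      rw [card_B2]
      refine dvd_mul_of_dvd_right ?_ _
      simp only [List.map_cons, List.map_nil, List.prod_cons, List.prod_nil, mul_one]
      exact dvd_mul_of_dvd_right ((dvd_pow_sub_one_iff hq 4).2 (by rw [h4])) _
    obtain ⟨x, hx⟩ := exists_prime_orderOf_dvd_card' s hd
    exact ⟨(F4.subB2 F).phi x, (F4.subB2 F).range_le_group ⟨x, rfl⟩,
      (orderOf_injective _ (F4.subB2 F).phi_injective x).trans hx, Or.inr ⟨x, rfl⟩⟩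
  · have hd : s ∣ Nat.card ↥(chevG2.group F) := by
      rw [card_G2]
      refine dvd_mul_of_dvd_right ?_ _
      simp only [List.map_cons, List.map_nil, List.prod_cons, List.prod_nil, mul_one]
      refine dvd_mul_of_dvd_right ((dvd_pow_sub_one_iff hq 6).2 ?_) _
      simp only [Finset.mem_insert, Finset.mem_singleton] at he
      rcases he with h | h | h | h | h <;> first | exact absurd h h4 | norm_num [h]
    obtain ⟨x, hx⟩ := exists_prime_orderOf_dvd_card' s hd
    exact ⟨(F4.subG2 F).phi x, (F4.subG2 F).range_le_group ⟨x, rfl⟩,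
      (orderOf_injective _ (F4.subG2 F).phi_injective x).trans hx, Or.inl ⟨x, rfl⟩⟩

/-- A prime dividing `q(q² - 1)` is adjacent to the primes of multiplicative order 1, 2, 3, 4 or 6. -/
theorem edge_sl2 (hn : 1 ≤ n) {r s : ℕ} (hr : r.Prime) (hs : s.Prime) (hrs : r ≠ s) (hs2 : s ≠ 2)
    (hr' : r = 2 ∨ orderOf ((Fintype.card F : ℕ) : ZMod r) ∈ ({1, 2} : Finset ℕ))
    (he : orderOf ((Fintype.card F : ℕ) : ZMod s) ∈ ({1, 2, 3, 4, 6} : Finset ℕ)) :
    ∃ x : ↥(chevF4.group F), orderOf x = r * s := by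
  haveI := Fact.mk hr
  have hr44 : (44 : ℕ) < chevF4.nroots ∧ chevF4.nroots / 2 ≤ 44 := by decide
  obtain ⟨φ, h1, h2, h3⟩ := F4.struct.hasSL2 (F := F) 44 hr44.1
  have hd : r ∣ Nat.card (Matrix.SpecialLinearGroup (Fin 2) F) := by
    rw [Cfsg.Lib.Classical.SLTwoTori.card_SL2]
    rcases hr' with rfl | h
    · exact dvd_mul_of_dvd_left (by rw [hF]; exact dvd_pow_self 2 (by omega)) _
    · refine dvd_mul_of_dvd_right ((dvd_pow_sub_one_iff Fintype.card_pos 2).2 ?_) _
      simp only [Finset.mem_insert, Finset.mem_singleton] at h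
      rcases h with h | h <;> rw [h]
      exact one_dvd _
  obtain ⟨a, ha⟩ := exists_prime_orderOf_dvd_card' r hd
  obtain ⟨z, hzG, hz, hzr⟩ := exists_small hF hs hs2 he
  have hao : orderOf (φ a) = r :=
    (orderOf_injective φ (sl2_injective F4.struct okNeg_F4 hr44.1 hr44.2 φ h1 h2) a).trans ha
  have haG : φ a ∈ chevF4.group F := by
    have hle : φ.range ≤ chevF4.group F := by
      rw [h3, Subgroup.closure_le]
      rintro y (⟨u, rfl⟩ | ⟨u, rfl⟩) <;> exact F4.struct.ok.xG_mem_group _ _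
    exact hle ⟨a, rfl⟩
  refine ⟨⟨φ a * z, mul_mem haG hzG⟩, ?_⟩
  rw [Subgroup.orderOf_mk, (commute_sl2 h3 hzr a).orderOf_mul_eq_mul_orderOf_of_coprime, hao, hz]
  rw [hao, hz]
  exact (Nat.coprime_primes hr hs).2 hrs

/-- Primes of equal multiplicative order 3, 4 or 6 are adjacent. -/
theorem edge_eq {r s e : ℕ} (hn : 1 ≤ n) (hr : r.Prime) (hs : s.Prime) (hrs : r ≠ s)
    (her : orderOf ((Fintype.card F : ℕ) : ZMod r) = e) (hes : orderOf ((Fintype.card F : ℕ) : ZMod s) = e)
    (he : e = 3 ∨ e = 4 ∨ e = 6) :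
    ∃ x : ↥(chevF4.group F), orderOf x = r * s := by
  classical
  haveI := Fact.mk hr
  haveI := Fact.mk hs
  have he0 : 0 < e := by omega
  obtain ⟨hre, her'⟩ := not_dvd_orderOf her he0
  obtain ⟨-, hes'⟩ := not_dvd_orderOf hes he0
  have h5 : 5 ≤ r := by
    have h4 : r ≠ 4 := fun h => by rw [h] at hr; norm_num at hr
    omega
  obtain ⟨k3, k4, k6, -, -⟩ := cyc_eval (Fintype.card F : ℤ)
  have hq : 1 ≤ Fintype.card F := Fintype.card_pos
  have h9 : ∀ (N : ℕ) (c : ℤ), (c = 1 ∨ c = -1) → (N : ℤ) = (Fintype.card F : ℤ) ^ 2 + c * (Fintype.card F : ℤ) + 1 →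
      ¬ 3 ^ 2 ∣ N := by
    intro N c hc hN h
    have h' : ((N : ℤ) : ZMod 9) = 0 := by
      rw [Int.cast_natCast, ZMod.natCast_eq_zero_iff]
      simpa using h
    rw [hN] at h'
    push_cast at h'
    generalize ((Fintype.card F : ℕ) : ZMod 9) = y at h'
    rcases hc with rfl | rfl <;> push_cast at h' <;> revert h' y <;> decide
  have hodd : ∀ (N : ℕ) (c : ℤ), (N : ℤ) = (Fintype.card F : ℤ) ^ 2 + c * (Fintype.card F : ℤ) + 1 → ¬ 2 ∣ N := by
    intro N c hN h
    have h' : ((N : ℤ) : ZMod 2) = 0 := by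
      rw [Int.cast_natCast, ZMod.natCast_eq_zero_iff]
      exact h
    rw [hN] at h'
    have h0 : ((Fintype.card F : ℤ) : ZMod 2) = 0 := by
      rw [Int.cast_natCast, ZMod.natCast_eq_zero_iff, hF]
      exact dvd_pow_self 2 (by omega)
    push_cast at h' h0
    rw [h0] at h'
    simp at h'
  have fin : ∀ (N : ℕ), (Polynomial.cyclotomic e ℤ).eval (Fintype.card F : ℤ) = N →
      ∀ (z : GL chevF4.Idx F), z ∈ chevF4.group F → orderOf z = N → ∃ x : ↥(chevF4.group F), orderOf x = r * s :=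
    fun N hN z hz ho => orderOf_of_dvd (x := (⟨z, hz⟩ : ↥(chevF4.group F))) (by
      rw [Subgroup.orderOf_mk, ho]
      exact ((Nat.coprime_primes hr hs).2 hrs).mul_dvd_of_dvd_of_dvd (dvd_cyc her he0 hN) (dvd_cyc hes he0 hN))
  have hcastpos : ∀ c : ℤ, (c = 1 ∨ c = 0 ∨ c = -1) →
      ∃ N : ℕ, (N : ℤ) = (Fintype.card F : ℤ) ^ 2 + c * (Fintype.card F : ℤ) + 1 ∧ N ≠ 0 := by
    intro c hc
    have hq' : (1 : ℤ) ≤ (Fintype.card F : ℤ) := by exact_mod_cast hq
    have hpos : 0 < (Fintype.card F : ℤ) ^ 2 + c * (Fintype.card F : ℤ) + 1 := by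
      rcases hc with rfl | rfl | rfl <;> nlinarith
    exact ⟨Int.toNat _, Int.toNat_of_nonneg hpos.le, by omega⟩
  rcases he with rfl | rfl | rfl
  · obtain ⟨N, hN, hN0⟩ := hcastpos 1 (Or.inl rfl)
    have hev : (Polynomial.cyclotomic 3 ℤ).eval (Fintype.card F : ℤ) = N := by rw [k3, hN]; ring
    obtain ⟨H, hc, hH, -⟩ := Springer.exists_torus' (F := F) Springer.G2_dat St.foldTorus_G2 (e := 3) (by norm_num)
      (by decide) (by decide) hev hN0 (fun l hl hlN => by
        by_cases h : l ∣ 3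
        · obtain rfl : l = 3 := (Nat.prime_dvd_prime_iff_eq hl Nat.prime_three).1 h
          exact Or.inr (h9 N 1 (Or.inl rfl) hN)
        · exact Or.inl h) hr (dvd_cyc her he0 hev) hre
      (by rw [Springer.G2_natCard_WG]; exact Springer.not_dvd_prod hr (b := 6) (by decide) (by
            by_contra h
            interval_cases r <;> first | omega | (norm_num at hr) | exact hre (by decide) | skip
            rw [← her] at her'
            have := ZMod.orderOf_dvd_card_sub_one (p := 5) (a := ((Fintype.card F : ℕ) : ZMod 5))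
              (fun h0 => by rw [h0] at her; simp at her)
            rw [her] at this
            norm_num at this))
      (by
        rw [card_G2]
        refine dvd_mul_of_dvd_right ?_ _
        simp only [List.map_cons, List.map_nil, List.prod_cons, List.prod_nil, mul_one]
        exact dvd_mul_of_dvd_right ((dvd_pow_sub_one_iff hq 6).2 (by rw [her]; decide)) _)
    obtain ⟨g, hg⟩ := IsCyclic.exists_ofOrder_eq_natCard (α := ↥H)
    refine fin N hev ((F4.subG2 F).phi g.1) ((F4.subG2 F).range_le_group ⟨_, rfl⟩) ?_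
    rw [orderOf_injective _ (F4.subG2 F).phi_injective, Subgroup.orderOf_coe, hg, hH]
  · obtain ⟨N, hN, hN0⟩ := hcastpos 0 (Or.inr (Or.inl rfl))
    have hev : (Polynomial.cyclotomic 4 ℤ).eval (Fintype.card F : ℤ) = N := by rw [k4, hN]; ring
    let K := FiniteField.Extension F 2 4
    haveI : CharP K 2 := charP_of_injective_algebraMap (algebraMap F K).injective 2
    let σ : K →+* K := (FiniteField.Extension.frob F 2 4).toRingEquiv.toRingHom
    have hfix : ∀ x, σ x = x → x ∈ Set.range (algebraMap F K) := by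
      intro x hx
      refine (IsGalois.mem_range_algebraMap_iff_fixed x).2 fun f => ?_
      obtain ⟨i, -, rfl⟩ := FiniteField.Extension.exists_frob_pow_eq F 2 4 f
      induction i with
      | zero => rfl
      | succ i ih =>
        rw [pow_succ, AlgEquiv.mul_apply]; rw [show (FiniteField.Extension.frob F 2 4) x = x from hx, ih]
    have hev' : (Polynomial.cyclotomic 4 ℤ).eval (Nat.card F : ℤ) = N := by rw [Nat.card_eq_fintype_card]; exact hev
    obtain ⟨H, hc, hH, -⟩ := Springer.exists_torus (F := F) (K := K) Springer.B2_dat (F4.subB2 K).hker' σ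
      (fun x => FiniteField.Extension.frob_apply F 2 4) hfix (e := 4) (by norm_num)
      (by decide) (by decide) (FiniteField.natCard_extension F 2 4) hev' hN0 (fun l hl hlN => by
        refine Or.inl fun h => hodd N 0 hN ?_
        have h2 : l = 2 := (Nat.prime_dvd_prime_iff_eq hl Nat.prime_two).1
          (hl.dvd_of_dvd_pow (show l ∣ 2 ^ 2 from h))
        exact h2 ▸ hlN) (dvd_cyc her he0 hev) hre
      (by rw [Springer.B2_natCard_WG]; exact Springer.not_dvd_prod hr (b := 4) (by decide) (by omega))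
      (by
        rw [card_B2]
        refine dvd_mul_of_dvd_right ?_ _
        simp only [List.map_cons, List.map_nil, List.prod_cons, List.prod_nil, mul_one]
        exact dvd_mul_of_dvd_right ((dvd_pow_sub_one_iff hq 4).2 (by rw [her])) _)
    obtain ⟨g, hg⟩ := IsCyclic.exists_ofOrder_eq_natCard (α := ↥H)
    refine fin N hev ((F4.subB2 F).phi g.1) ((F4.subB2 F).range_le_group ⟨_, rfl⟩) ?_
    rw [orderOf_injective _ (F4.subB2 F).phi_injective, Subgroup.orderOf_coe, hg, hH]
  · obtain ⟨N, hN, hN0⟩ := hcastpos (-1) (Or.inr (Or.inr rfl))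
    have hev : (Polynomial.cyclotomic 6 ℤ).eval (Fintype.card F : ℤ) = N := by rw [k6, hN]; ring
    obtain ⟨H, hc, hH, -⟩ := Springer.exists_torus' (F := F) Springer.G2_dat St.foldTorus_G2 (e := 6) (by norm_num)
      (by decide) (by decide) hev hN0 (fun l hl hlN => by
        by_cases h : l ∣ 6
        · rcases hl.dvd_mul.1 (show l ∣ 2 * 3 from h) with h2 | h3
          · exact absurd ((Nat.prime_dvd_prime_iff_eq hl Nat.prime_two).1 h2 ▸ hlN) (hodd N (-1) hN)
          · obtain rfl : l = 3 := (Nat.prime_dvd_prime_iff_eq hl Nat.prime_three).1 h3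
            exact Or.inr (h9 N (-1) (Or.inr rfl) hN)
        · exact Or.inl h) hr (dvd_cyc her he0 hev) hre
      (by rw [Springer.G2_natCard_WG]; exact Springer.not_dvd_prod hr (b := 6) (by decide) (by omega))
      (by
        rw [card_G2]
        refine dvd_mul_of_dvd_right ?_ _
        simp only [List.map_cons, List.map_nil, List.prod_cons, List.prod_nil, mul_one]
        exact dvd_mul_of_dvd_right ((dvd_pow_sub_one_iff hq 6).2 (by rw [her])) _)
    obtain ⟨g, hg⟩ := IsCyclic.exists_ofOrder_eq_natCard (α := ↥H)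
    refine fin N hev ((F4.subG2 F).phi g.1) ((F4.subG2 F).range_le_group ⟨_, rfl⟩) ?_
    rw [orderOf_injective _ (F4.subG2 F).phi_injective, Subgroup.orderOf_coe, hg, hH]

end Cfsg.Lib.F4Graph
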