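import Cfsg.Agent.Chev.Springer.Data

/-! No element of the Weyl group of type `F4` has eigenvalues of two of the orders 3, 4, 6 modulo primes above three. -/

set_option autoImplicit false

open Cfsg.Lie

namespace Cfsg.Lib.F4Graph

open Cfsg.Lib.Chev Cfsg.Lib.Chev.Springer Matrix

/-- The invariant form on the coordinates of the roots. -/
noncomputable def gram (a b : ℕ) : ℤ :=
  let u := fun k => htAt F4.htTab a k
  let v := fun k => htAt F4.htTab b k
  u 0 * (2 * v 0 - v 1) + u 1 * (-v 0 + 2 * v 1 - 2 * v 2) + u 2 * (-2 * v 1 + 4 * v 2 - 2 * v 3) +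
    u 3 * (-2 * v 2 + 4 * v 3)

/-- Products of four by four matrices. -/
def mm (A B : ℕ → ℕ → ℤ) (j k : ℕ) : ℤ := A j 0 * B 0 k + A j 1 * B 1 k + A j 2 * B 2 k + A j 3 * B 3 k

/-- The determinant of a four by four matrix. -/
def det4 (f : ℕ → ℕ → ℤ) : ℤ :=
  f 0 0 * (f 1 1 * (f 2 2 * f 3 3 - f 2 3 * f 3 2) - f 1 2 * (f 2 1 * f 3 3 - f 2 3 * f 3 1) +
      f 1 3 * (f 2 1 * f 3 2 - f 2 2 * f 3 1))
  - f 0 1 * (f 1 0 * (f 2 2 * f 3 3 - f 2 3 * f 3 2) - f 1 2 * (f 2 0 * f 3 3 - f 2 3 * f 3 0) +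
      f 1 3 * (f 2 0 * f 3 2 - f 2 2 * f 3 0))
  + f 0 2 * (f 1 0 * (f 2 1 * f 3 3 - f 2 3 * f 3 1) - f 1 1 * (f 2 0 * f 3 3 - f 2 3 * f 3 0) +
      f 1 3 * (f 2 0 * f 3 1 - f 2 1 * f 3 0))
  - f 0 3 * (f 1 0 * (f 2 1 * f 3 2 - f 2 2 * f 3 1) - f 1 1 * (f 2 0 * f 3 2 - f 2 2 * f 3 0) +
      f 1 2 * (f 2 0 * f 3 1 - f 2 1 * f 3 0))

theorem det4_eq (A : Matrix (Fin 4) (Fin 4) ℤ) :
    A.det = det4 fun j k => if h : j < 4 ∧ k < 4 then A ⟨j, h.1⟩ ⟨k, h.2⟩ else 0 := by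
  rw [Matrix.det_succ_row_zero, Fin.sum_univ_four]
  simp only [Matrix.det_fin_three, Matrix.submatrix_apply, det4]
  simp [Fin.succAbove, Fin.lt_def]
  ring

/-- The value at a matrix of the cyclotomic polynomial of degree two with middle coefficient `c`. -/
def phi2 (c : ℤ) (M : ℕ → ℕ → ℤ) (j k : ℕ) : ℤ :=
  mm M M j k + c * M j k + (if Nat.beq j k then 1 else 0)

/-- The only prime divisors are two and three. -/
noncomputable def small (z : ℤ) : Bool :=
  !Nat.beq z.natAbs 0 && Nat.beq (Nat.mod (Nat.pow 6 20) z.natAbs) 0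

/-- The check on one matrix. -/
noncomputable def good (M : ℕ → ℕ → ℤ) : Bool :=
  (small (det4 (phi2 1 M)) || small (det4 (phi2 0 M))) && (small (det4 (phi2 1 M)) || small (det4 (phi2 (-1) M))) &&
    (small (det4 (phi2 0 M)) || small (det4 (phi2 (-1) M)))

/-- The rows given by four roots. -/
noncomputable def rowsM (r0 r1 r2 r3 : ℕ) (j k : ℕ) : ℤ :=
  htAt F4.htTab (if Nat.beq j 0 then r0 else if Nat.beq j 1 then r1 else if Nat.beq j 2 then r2 else r3) k

/-- All quadruples of roots with the Gram matrix of the fundamental roots pass the check. -/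
noncomputable def okQuads (a : ℕ) : Bool :=
  !decide (gram a a = 2) || kall (fun b => !(decide (gram b b = 2) && decide (gram a b = -1)) ||
    kall (fun c => !(decide (gram c c = 4) && decide (gram a c = 0) && decide (gram b c = -2)) ||
      kall (fun d => !(decide (gram d d = 4) && decide (gram a d = 0) && decide (gram b d = 0) &&
        decide (gram c d = -2)) || good (rowsM a b c d)) (krange 0 48)) (krange 0 48)) (krange 0 48)

theorem quads_ok : kall okQuads (krange 0 48) = true := by decide +kernel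

/-- The entries of the Gram matrix of the fundamental roots. -/
def g0 (a b : ℕ) : ℤ := ([[2, -1, 0, 0], [-1, 2, -2, 0], [0, -2, 4, -2], [0, 0, -2, 4]].getD a []).getD b 0

theorem gram_simple : ∀ i < 4, ∀ a < 4, ∀ b < 4,
    gram (F4.cert.w i (F4.cert.sr a)) (F4.cert.w i (F4.cert.sr b)) = g0 a b := by decide +kernel

/-- The Gram matrix of the fundamental roots. -/
def G0 : Matrix (Fin 4) (Fin 4) ℤ := Matrix.of fun a b => g0 a.val b.val

theorem gram_eq (a b : ℕ) :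
    gram a b = ∑ i : Fin 4, ∑ j : Fin 4, htAt F4.htTab a i.val * G0 i j * htAt F4.htTab b j.val := by
  simp [gram, G0, g0, Fin.sum_univ_four]
  ring

/-- The matrix of a permutation of the roots. -/
noncomputable def MW (w : Equiv.Perm (Fin chevF4.nroots)) : Matrix (Fin 4) (Fin 4) ℤ := Mz F4_dat.S F4.htTab w

theorem gram_Mz (w : Equiv.Perm (Fin chevF4.nroots)) (a b : Fin 4) :
    gram (w (F4_dat.S.sp a)).val (w (F4_dat.S.sp b)).val = (MW w * G0 * (MW w)ᵀ) a b := by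
  rw [gram_eq, Matrix.mul_apply, Finset.sum_comm]
  refine Finset.sum_congr rfl fun j _ => ?_
  rw [Matrix.mul_apply, Finset.sum_mul]
  exact Finset.sum_congr rfl fun i _ => rfl

theorem gram_wp (i : Fin chevF4.rank) : MW (F4_dat.S.wp i) * G0 * (MW (F4_dat.S.wp i))ᵀ = G0 := by
  ext a b
  rw [← gram_Mz]
  exact gram_simple i.val i.isLt a.val a.isLt b.val b.isLt

theorem Mz_G0 {w : Equiv.Perm (Fin chevF4.nroots)} (hw : w ∈ F4_dat.S.WG) : MW w * G0 * (MW w)ᵀ = G0 := by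
  obtain ⟨L, rfl⟩ := F4_dat.S.exists_wpL hw
  clear hw
  induction L with
  | nil =>
    rw [show F4_dat.S.wpL [] = 1 from rfl, show MW 1 = 1 from F4_dat.Mz_one]
    simp
  | cons i L ih =>
    have hi : F4_dat.S.wp i ∈ F4_dat.S.WG := Subgroup.subset_closure ⟨i, rfl⟩
    have e : MW (F4_dat.S.wpL (i :: L)) = MW (F4_dat.S.wpL L) * MW (F4_dat.S.wp i) := by
      rw [show F4_dat.S.wpL (i :: L) = F4_dat.S.wp i * F4_dat.S.wpL L by simp [Struct.wpL]]
      exact F4_dat.Mz_mul hi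
    rw [e, Matrix.transpose_mul]
    conv_rhs => rw [← ih, ← gram_wp i]
    simp only [Matrix.mul_assoc]

/-- The value at a Weyl matrix of a cyclotomic polynomial of degree two. -/
noncomputable def cyc (c : ℤ) (M : Matrix (Fin 4) (Fin 4) ℤ) : Matrix (Fin 4) (Fin 4) ℤ := M * M + c • M + 1

theorem det_cyc (c : ℤ) (M : Matrix (Fin 4) (Fin 4) ℤ) (f : ℕ → ℕ → ℤ) (hf : ∀ j k : Fin 4, M j k = f j.val k.val) :
    (cyc c M).det = det4 (phi2 c f) := by
  have key : ∀ j k : ℕ, ∀ (hj : j < 4) (hk : k < 4), cyc c M ⟨j, hj⟩ ⟨k, hk⟩ = phi2 c f j k := fun j k hj hk => by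
    simp only [cyc, Matrix.add_apply, Matrix.smul_apply, Matrix.mul_apply, Fin.sum_univ_four, hf, Matrix.one_apply,
      phi2, mm, smul_eq_mul, Nat.beq_eq, Fin.mk.injEq]
    rfl
  rw [det4_eq]
  simp [det4, key]

theorem not_dvd_small {z : ℤ} (h : small z = true) {r : ℕ} (hr : r.Prime) (h5 : 3 < r) : ¬ (r : ℤ) ∣ z := by
  simp only [small, Bool.and_eq_true, Bool.not_eq_true', Nat.beq_eq] at h
  intro hd
  have h1 : r ∣ z.natAbs := Int.natCast_dvd.1 hd
  have h2 : r ∣ 6 ^ 20 := h1.trans (Nat.dvd_of_mod_eq_zero h.2)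
  have h3 : r ∣ 2 * 3 := hr.dvd_of_dvd_pow h2
  rcases hr.dvd_mul.1 h3 with h4 | h4
  · have := Nat.le_of_dvd (by norm_num) h4; omega
  · have := Nat.le_of_dvd (by norm_num) h4; omega

/-- No Weyl matrix has two of these polynomials singular modulo primes above three. -/
theorem not_both {w : Equiv.Perm (Fin chevF4.nroots)} (hw : w ∈ F4_dat.S.WG) {c d : ℤ}
    (hcd : (c = 1 ∧ d = 0) ∨ (c = 1 ∧ d = -1) ∨ (c = 0 ∧ d = -1)) {r s : ℕ} (hr : r.Prime) (hs : s.Prime)
    (hr3 : 3 < r) (hs3 : 3 < s) (h1 : (r : ℤ) ∣ (cyc c (MW w)).det)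
    (h2 : (s : ℤ) ∣ (cyc d (MW w)).det) : False := by
  set a : Fin 4 → ℕ := fun j => (w (F4_dat.S.sp j)).val with ha
  have hG : ∀ i j : Fin 4, gram (a i) (a j) = G0 i j := fun i j => by rw [ha, gram_Mz, Mz_G0 hw]
  have hlt : ∀ i, a i < 48 := fun i => (w (F4_dat.S.sp i)).isLt
  have g := kall_krange quads_ok (a 0) (hlt 0)
  simp only [okQuads, Bool.or_eq_true, Bool.not_eq_true', decide_eq_false_iff_not, hG, G0, g0, kall_iff] at g
  rcases g with g | g
  · exact g (by simp)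
  have g := g (a 1) (by rw [krange_eq, List.mem_range'_1]; have := hlt 1; omega)
  simp [hG, G0, g0] at g
  have g := g (a 2) (by rw [krange_eq, List.mem_range'_1]; have := hlt 2; omega)
  simp [hG, G0, g0] at g
  have g := g (a 3) (by rw [krange_eq, List.mem_range'_1]; have := hlt 3; omega)
  simp [hG, G0, g0] at g
  have hf : ∀ j k : Fin 4, MW w j k =
      rowsM (a 0) (a 1) (a 2) (a 3) j.val k.val := fun j k => by
    fin_cases j <;> rfl
  rw [det_cyc _ _ _ hf] at h1 h2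
  simp only [good, Bool.and_eq_true, Bool.or_eq_true] at g
  obtain ⟨⟨g1, g2⟩, g3⟩ := g
  rcases hcd with ⟨rfl, rfl⟩ | ⟨rfl, rfl⟩ | ⟨rfl, rfl⟩
  · exact g1.elim (fun g => not_dvd_small g hr hr3 h1) fun g => not_dvd_small g hs hs3 h2
  · exact g2.elim (fun g => not_dvd_small g hr hr3 h1) fun g => not_dvd_small g hs hs3 h2
  · exact g3.elim (fun g => not_dvd_small g hr hr3 h1) fun g => not_dvd_small g hs hs3 h2

end Cfsg.Lib.F4Graph
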