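import Cfsg.Agent.Chev.F4Graph.Arith
import Cfsg.Agent.Chev.F4Graph.Table

/-! The non-edges of the prime graph of `F4(q)`, `q` even. -/

set_option autoImplicit false

open Cfsg.Lie

namespace Cfsg.Lib.F4Graph

open Cfsg.Lib.Chev Cfsg.Lib.Chev.Springer Matrix Polynomial

variable {F : Type*} [Field F] [Fintype F]

/-- The cyclotomic values of degree four. -/
theorem big_value {n e : ℕ} (hn : 1 ≤ n) (hF : Fintype.card F = 2 ^ n) (he : e = 8 ∨ e = 12) :
    ∃ N : ℕ, (cyclotomic e ℤ).eval (Fintype.card F : ℤ) = N ∧ N ≠ 0 ∧ ¬ 2 ∣ N ∧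
      ∀ ℓ : ℕ, ℓ.Prime → ℓ ∣ N → ¬ ℓ ∣ e := by
  obtain ⟨-, -, -, k8, k12⟩ := cyc_eval (Fintype.card F : ℤ)
  have h2q : ((Fintype.card F : ℤ) : ZMod 2) = 0 := by
    rw [Int.cast_natCast, ZMod.natCast_eq_zero_iff, hF]
    exact dvd_pow_self 2 (by omega)
  have hq : (1 : ℤ) ≤ (Fintype.card F : ℤ) := by exact_mod_cast Fintype.card_pos
  rcases he with rfl | rfl
  · have hN : ((Fintype.card F ^ 4 + 1 : ℕ) : ℤ) = (cyclotomic 8 ℤ).eval (Fintype.card F : ℤ) := by
      rw [k8]; push_cast; rfl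
    have h2 : ¬ 2 ∣ Fintype.card F ^ 4 + 1 := fun h => by
      have h' := (ZMod.natCast_eq_zero_iff (Fintype.card F ^ 4 + 1) 2).2 h
      rw [← Int.cast_natCast (R := ZMod 2), hN, k8] at h'
      push_cast at h' h2q
      rw [h2q] at h'
      simp at h'
    refine ⟨_, hN.symm, by omega, h2, fun l hl hlN hle => h2 ?_⟩
    have : l = 2 := (Nat.prime_dvd_prime_iff_eq hl Nat.prime_two).1
      (hl.dvd_of_dvd_pow (show l ∣ 2 ^ 3 from hle))
    exact this ▸ hlN
  · have hpos : 0 < (Fintype.card F : ℤ) ^ 4 - (Fintype.card F : ℤ) ^ 2 + 1 := by nlinarith [mul_le_mul hq hq zero_le_one (by omega)]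
    obtain ⟨N, hN⟩ := Int.eq_ofNat_of_zero_le hpos.le
    have h2 : ¬ 2 ∣ N := fun h => by
      have h' := congrArg (Int.cast : ℤ → ZMod 2) hN
      rw [Int.cast_natCast, (ZMod.natCast_eq_zero_iff N 2).2 h] at h'
      push_cast at h' h2q
      rw [h2q] at h'
      simp at h'
    have h3 : ¬ 3 ∣ N := fun h => by
      have h' := congrArg (Int.cast : ℤ → ZMod 3) hN
      rw [Int.cast_natCast, (ZMod.natCast_eq_zero_iff N 3).2 h] at h'
      push_cast at h'
      generalize ((Fintype.card F : ℕ) : ZMod 3) = y at h'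
      revert h' y
      decide
    refine ⟨N, k12.trans hN, by omega, h2, fun l hl hlN hle => ?_⟩
    rcases hl.dvd_mul.1 (show l ∣ 4 * 3 from hle) with h | h
    · exact h2 ((Nat.prime_dvd_prime_iff_eq hl Nat.prime_two).1 (hl.dvd_of_dvd_pow (show l ∣ 2 ^ 2 from h)) ▸ hlN)
    · exact h3 ((Nat.prime_dvd_prime_iff_eq hl Nat.prime_three).1 h ▸ hlN)

/-- The centraliser of an element of prime order with multiplicative order 8 or 12 is cyclic of cyclotomic order. -/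
theorem centralizer_big {n e s : ℕ} (hn : 1 ≤ n) (hF : Fintype.card F = 2 ^ n) (he : e = 8 ∨ e = 12) (hs : s.Prime)
    (hes : orderOf ((Fintype.card F : ℕ) : ZMod s) = e) {y : ↥(chevF4.group F)} (hy : orderOf y = s) :
    ∃ N : ℕ, (cyclotomic e ℤ).eval (Fintype.card F : ℤ) = N ∧ ¬ 2 ∣ N ∧ (∀ ℓ : ℕ, ℓ.Prime → ℓ ∣ N → ¬ ℓ ∣ e) ∧
      IsCyclic ↥(Subgroup.centralizer ({y} : Set ↥(chevF4.group F))) ∧
      Nat.card ↥(Subgroup.centralizer ({y} : Set ↥(chevF4.group F))) = N := by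
  haveI := Fact.mk hs
  obtain ⟨N, hN, hN0, h2, hbad⟩ := big_value (F := F) hn hF he
  have he0 : 0 < e := by omega
  obtain ⟨hse, hlt⟩ := not_dvd_orderOf hes he0
  have h12 : 12 < s := by
    have h1 : e ∣ s - 1 := hes ▸ ZMod.orderOf_dvd_card_sub_one (fun h0 => by rw [h0] at hes; simp at hes; omega)
    by_contra h
    rcases he with rfl | rfl <;> interval_cases s <;> first | omega | (norm_num at hs) | (norm_num at h1)
  obtain ⟨⟨hc, hcard⟩, -⟩ := torus_at' (F := F) F4_dat St.foldTorus_F4 (e := e) he0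
    (by rcases he with rfl | rfl <;> decide) (by decide) hN hN0 (fun l hl h => Or.inl (hbad l hl h)) hs
    (dvd_cyc hes he0 hN) hse (by rw [F4_natCard_WG]; exact not_dvd_prod hs (b := 12) (by decide) h12) y hy
  exact ⟨N, hN, h2, hbad, hc, hcard⟩

/-- Primes of multiplicative order 8 or 12 are adjacent only to primes of the same order. -/
theorem no_edge_big {n r s : ℕ} (hn : 1 ≤ n) (hF : Fintype.card F = 2 ^ n) (hr : r.Prime) (hs : s.Prime)
    (hrs : r ≠ s) (he : orderOf ((Fintype.card F : ℕ) : ZMod s) ∈ ({8, 12} : Finset ℕ))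
    (hne : r = 2 ∨ orderOf ((Fintype.card F : ℕ) : ZMod r) ≠ orderOf ((Fintype.card F : ℕ) : ZMod s)) :
    ¬ ∃ x : ↥(chevF4.group F), orderOf x = r * s := by
  rintro ⟨x, hx⟩
  haveI := Fact.mk hr
  have hy : orderOf (x ^ r) = s := by
    rw [orderOf_pow' x hr.ne_zero, hx, Nat.gcd_mul_right_left, Nat.mul_div_cancel_left _ hr.pos]
  have he' : orderOf ((Fintype.card F : ℕ) : ZMod s) = 8 ∨ orderOf ((Fintype.card F : ℕ) : ZMod s) = 12 := by
    simpa using he
  obtain ⟨N, hN, h2, hbad, -, hcard⟩ := centralizer_big hn hF he' hs rfl hy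
  have hmem : x ∈ Subgroup.centralizer ({x ^ r} : Set ↥(chevF4.group F)) :=
    Subgroup.mem_centralizer_iff.2 fun v hv => by rw [Set.mem_singleton_iff.1 hv]; exact (Commute.self_pow x r).symm.eq
  have hrN : r ∣ N := by
    rw [← hcard]
    have h := orderOf_dvd_natCard (⟨x, hmem⟩ : ↥(Subgroup.centralizer ({x ^ r} : Set ↥(chevF4.group F))))
    rw [Subgroup.orderOf_mk, hx] at h
    exact (dvd_mul_right r s).trans h
  rcases hne with rfl | hne
  · exact h2 hrN
  · exact hne (orderOf_of_dvd_cyc (hbad r hr hrN) hN hrN)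

/-- An element of order a product of two primes away from the index of an abelian subgroup is conjugate into it. -/
theorem conj_into {G : Type*} [Group G] [Finite G] (Q : Subgroup G) (hQ : ∀ a ∈ Q, ∀ b ∈ Q, Commute a b)
    {r s : ℕ} (hr : r.Prime) (hs : s.Prime) (hrs : r ≠ s) (hri : ¬ r ∣ Q.index) (hsi : ¬ s ∣ Q.index) {x : G}
    (hx : x ^ (r * s) = 1) : ∃ g : G, g⁻¹ * x * g ∈ Q := by
  haveI := Fact.mk hr
  haveI := Fact.mk hs
  have key : ∀ (H : Subgroup G) (p : ℕ), p.Prime → ¬ p ∣ (Q.subgroupOf H).index → ∀ z ∈ H, z ^ p = 1 →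
      ∃ g ∈ H, g⁻¹ * z * g ∈ Q := by
    intro H p hp hpi z hz hzp
    haveI := Fact.mk hp
    have hP : IsPGroup p ↥(Subgroup.zpowers (⟨z, hz⟩ : ↥H)) := by
      intro y
      refine ⟨1, ?_⟩
      obtain ⟨k, hk⟩ := y.2
      refine Subtype.ext ?_
      rw [pow_one, SubmonoidClass.coe_pow, OneMemClass.coe_one, ← hk, ← _root_.zpow_natCast, ← _root_.zpow_mul,
        mul_comm, _root_.zpow_mul, _root_.zpow_natCast,
        show (⟨z, hz⟩ : ↥H) ^ p = 1 from Subtype.ext hzp, _root_.one_zpow]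
    obtain ⟨pt, hpt⟩ := hP.nonempty_fixed_point_of_prime_not_dvd_card (↥H ⧸ Q.subgroupOf H)
      (by rw [← Subgroup.index_eq_card]; exact hpi)
    obtain ⟨g, rfl⟩ := QuotientGroup.mk_surjective pt
    refine ⟨g, g.2, ?_⟩
    have h := hpt ⟨⟨z, hz⟩, Subgroup.mem_zpowers _⟩
    have h2 : ((⟨z, hz⟩ * g : ↥H) : ↥H ⧸ Q.subgroupOf H) = (g : ↥H ⧸ Q.subgroupOf H) := h
    have h3 := QuotientGroup.eq.1 h2.symm
    rw [Subgroup.mem_subgroupOf] at h3
    simpa [mul_assoc] using h3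
  obtain ⟨g, -, hg⟩ := key ⊤ r hr (fun h => hri (h.trans (Subgroup.relIndex_top_right Q).dvd)) (x ^ s) trivial
    (by rw [← pow_mul, mul_comm, hx])
  set x' := g⁻¹ * x * g with hx'
  have hpow : ∀ k : ℕ, x' ^ k = g⁻¹ * x ^ k * g := fun k => by
    rw [hx', show g⁻¹ * x * g = g⁻¹ * x * g⁻¹⁻¹ by group, conj_pow]; group
  have hy : x' ^ s ∈ Q := by rw [hpow]; exact hg
  set Cy := Subgroup.centralizer ({x' ^ s} : Set G)
  have hQC : Q ≤ Cy := fun a ha => Subgroup.mem_centralizer_iff.2 fun v hv => by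
    rw [Set.mem_singleton_iff.1 hv]; exact hQ _ hy _ ha
  have hzC : x' ^ r ∈ Cy := Subgroup.mem_centralizer_iff.2 fun v hv => by
    rw [Set.mem_singleton_iff.1 hv]; exact (Commute.pow_pow_self x' s r).eq
  obtain ⟨k, hk, hkz⟩ := key Cy s hs (fun h => hsi (h.trans (Q.relIndex_dvd_index_of_le hQC))) (x' ^ r) hzC
    (by rw [← pow_mul, hpow, hx]; group)
  refine ⟨g * k, ?_⟩
  rw [show (g * k)⁻¹ * x * (g * k) = k⁻¹ * x' * k by rw [hx']; group]
  obtain ⟨a, b, hab⟩ : ∃ a b : ℤ, (s : ℤ) * a + (r : ℤ) * b = 1 := by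
    have h : IsCoprime (s : ℤ) (r : ℤ) :=
      Int.isCoprime_iff_gcd_eq_one.2 (by simpa using (Nat.coprime_primes hs hr).2 hrs.symm)
    obtain ⟨a, b, e⟩ := h
    exact ⟨a, b, by linarith⟩
  have hxy : k⁻¹ * x' * k = (k⁻¹ * x' ^ s * k) ^ a * (k⁻¹ * x' ^ r * k) ^ b := by
    have e : ∀ m : ℕ, ∀ c : ℤ, (k⁻¹ * x' ^ m * k) ^ c = (k⁻¹ * x' * k) ^ ((m : ℤ) * c) := fun m c => by
      rw [show k⁻¹ * x' ^ m * k = (k⁻¹ * x' * k) ^ m by
        rw [show k⁻¹ * x' * k = k⁻¹ * x' * k⁻¹⁻¹ by group, conj_pow]; group, _root_.zpow_mul,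
        _root_.zpow_natCast]
    rw [e, e, ← _root_.zpow_add, hab, _root_.zpow_one]
  rw [hxy]
  refine mul_mem (zpow_mem ?_ a) (zpow_mem hkz b)
  rw [show k⁻¹ * x' ^ s * k = x' ^ s from ?_]
  · exact hy
  · have h := Subgroup.mem_centralizer_iff.1 hk (x' ^ s) rfl
    rw [mul_assoc, h, inv_mul_cancel_left]

/-- The value of a cyclotomic polynomial of degree two. -/
theorem cyc_zero {p e : ℕ} [Fact p.Prime] {q : ℕ} (he : orderOf (q : ZMod p) = e) {c : ℤ}
    (hc : (e = 3 ∧ c = 1) ∨ (e = 4 ∧ c = 0) ∨ (e = 6 ∧ c = -1)) :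
    (q : ZMod p) ^ 2 + (c : ZMod p) * (q : ZMod p) + 1 = 0 := by
  have he0 : 0 < e := by omega
  obtain ⟨k3, k4, k6, -, -⟩ := cyc_eval (q : ℤ)
  have hne : ((e : ℕ) : ZMod p) ≠ 0 := fun h => (not_dvd_orderOf he he0).1 ((ZMod.natCast_eq_zero_iff _ _).1 h)
  haveI : NeZero (e : ZMod p) := ⟨hne⟩
  have h : IsRoot (cyclotomic e (ZMod p)) (q : ZMod p) :=
    isRoot_cyclotomic_iff.2 (he ▸ IsPrimitiveRoot.orderOf _)
  rw [IsRoot, ← map_cyclotomic e (Int.castRingHom (ZMod p)), ← Int.cast_natCast q, eval_intCast_map, Int.cast_id,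
    eq_intCast] at h
  rcases hc with ⟨rfl, rfl⟩ | ⟨rfl, rfl⟩ | ⟨rfl, rfl⟩
  · rw [k3] at h; push_cast at h ⊢; linear_combination h
  · rw [k4] at h; push_cast at h ⊢; linear_combination h
  · rw [k6] at h; push_cast at h ⊢; linear_combination h

/-- A vector with eigenvalue a root of the quadratic polynomial modulo a prime makes it singular. -/
theorem dvd_det {p : ℕ} [Fact p.Prime] {q : ℕ} {c : ℤ} (M : Matrix (Fin 4) (Fin 4) ℤ)
    (hq : (q : ZMod p) ^ 2 + (c : ZMod p) * (q : ZMod p) + 1 = 0) {v : Fin 4 → ZMod p} (hv : v ≠ 0)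
    (hM : red p M *ᵥ v = (q : ZMod p) • v) : (p : ℤ) ∣ (cyc c M).det := by
  have h1 : red p (cyc c M) *ᵥ v = 0 := by
    rw [cyc, map_add, map_add, map_zsmul, map_mul, map_one, Matrix.add_mulVec, Matrix.add_mulVec,
      ← Matrix.mulVec_mulVec, hM, Matrix.mulVec_smul, hM, Matrix.one_mulVec, ← Int.cast_smul_eq_zsmul (ZMod p),
      Matrix.smul_mulVec, hM, smul_smul, smul_smul]
    funext i
    simp only [Pi.add_apply, Pi.smul_apply, smul_eq_mul, Pi.zero_apply]
    linear_combination (v i) * hq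
  have h2 : (red p (cyc c M)).det = 0 := by
    by_contra h
    exact hv (Matrix.eq_zero_of_mulVec_eq_zero h h1)
  have h3 : red p (cyc c M) = (cyc c M).map (Int.castRingHom (ZMod p)) := by
    ext i j; simp [red_apply]
  rw [h3, ← RingHom.mapMatrix_apply, ← RingHom.map_det, eq_intCast] at h2
  exact (ZMod.intCast_zmod_eq_zero_iff_dvd _ _).1 h2

/-- Primes of distinct multiplicative orders among 3, 4, 6 are not adjacent. -/
theorem no_edge_small {n r s k l : ℕ} (hn : 1 ≤ n) (hF : Fintype.card F = 2 ^ n) (hr : r.Prime) (hs : s.Prime)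
    (hk : orderOf ((Fintype.card F : ℕ) : ZMod r) = k) (hl : orderOf ((Fintype.card F : ℕ) : ZMod s) = l)
    (hkl : (k = 3 ∧ l = 4) ∨ (k = 3 ∧ l = 6) ∨ (k = 4 ∧ l = 6)) :
    ¬ ∃ x : ↥(chevF4.group F), orderOf x = r * s := by
  classical
  rintro ⟨x0, hx0⟩
  haveI := Fact.mk hr
  haveI := Fact.mk hs
  have hrs : r ≠ s := fun h => by subst h; omega
  have hk0 : 0 < k := by omega
  have hl0 : 0 < l := by omega
  obtain ⟨-, hklt⟩ := not_dvd_orderOf hk hk0
  obtain ⟨-, hllt⟩ := not_dvd_orderOf hl hl0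
  have hr3 : 3 < r := by omega
  have hs3 : 3 < s := by omega
  obtain ⟨p, hcp⟩ := CharP.exists F
  haveI : Fact p.Prime := ⟨CharP.char_is_prime F p⟩
  set q := Fintype.card F with hq
  have hq1 : 1 ≤ q := Fintype.card_pos
  let K := FiniteField.Extension F p 12
  haveI : Fintype K := Fintype.ofFinite K
  let σ : K →+* K := (FiniteField.Extension.frob F p 12).toRingEquiv.toRingHom
  have hσ : ∀ z, σ z = z ^ q := fun z => by
    rw [hq, ← Nat.card_eq_fintype_card]; exact FiniteField.Extension.frob_apply F p 12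
  have hσF : ∀ a, σ (algebraMap F K a) = algebraMap F K a := fun a => by
    rw [hσ, ← map_pow, FiniteField.pow_card]
  have hker : (Ok.tG chevF4 K).ker = ⊥ := St.torus_ker_trivial F4.ok St.foldTorus_F4
  have hinj : Function.Injective (Ok.tG chevF4 K) := (MonoidHom.ker_eq_bot_iff _).1 hker
  have hcK : Fintype.card K = q ^ 12 := by
    rw [← Nat.card_eq_fintype_card, FiniteField.natCard_extension F p 12, Nat.card_eq_fintype_card]
  have hQ : ∀ {m : ℕ}, m.Prime → orderOf ((q : ℕ) : ZMod m) ∈ ({3, 4, 6} : Finset ℕ) →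
      m ∣ Fintype.card K - 1 := by
    intro m hm he
    haveI := Fact.mk hm
    rw [hcK, dvd_pow_sub_one_iff hq1]
    simp only [Finset.mem_insert, Finset.mem_singleton] at he
    rcases he with h | h | h <;> rw [h] <;> decide
  have hQr := hQ hr (by rw [hk]; simp; omega)
  have hQs := hQ hs (by rw [hl]; simp; omega)
  have hW : ∀ {m : ℕ}, m.Prime → 3 < m → ¬ m ∣ Nat.card ↥F4_dat.S.WG := fun {m} hm h3 h => by
    rw [F4_natCard_WG] at h
    have h' : m ∣ 2 ^ 7 * 3 ^ 2 := h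
    rcases hm.dvd_mul.1 h' with h' | h'
    · have := (Nat.prime_dvd_prime_iff_eq hm Nat.prime_two).1 (hm.dvd_of_dvd_pow h'); omega
    · have := (Nat.prime_dvd_prime_iff_eq hm Nat.prime_three).1 (hm.dvd_of_dvd_pow h'); omega
  have hdiag_le : chevF4.diagonalSubgroup K ≤ chevF4.group K := le_sup_right.trans F4_dat.S.borel_le_group
  set Q := (chevF4.diagonalSubgroup K).subgroupOf (chevF4.group K) with hQdef
  have hidx : ∀ {m : ℕ}, m.Prime → 3 < m → m ∣ Fintype.card K - 1 → ¬ m ∣ Q.index := by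
    intro m hm h3 hmK hd
    haveI := Fact.mk hm
    obtain ⟨m', hm', hmW⟩ := card_group_modEq F4_dat hmK
    have h := Subgroup.card_mul_index Q
    rw [hQdef, Nat.card_congr (Subgroup.subgroupOfEquivOfLe hdiag_le).toEquiv, hm'] at h
    rw [← hQdef] at h
    rw [Nat.eq_of_mul_eq_mul_left Nat.card_pos h] at hd
    exact hW hm h3 ((ZMod.natCast_eq_zero_iff _ _).1 (hmW ▸ (ZMod.natCast_eq_zero_iff _ _).2 hd))
  set x := ext chevF4 F K (x0 : GL chevF4.Idx F) with hxdef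
  have hxG : x ∈ chevF4.group K := ext_mem_group F4_dat.S x0.2
  have hxo : orderOf x = r * s := by
    rw [hxdef, orderOf_injective _ ext_injective, Subgroup.orderOf_coe, hx0]
  have hxo' : orderOf (⟨x, hxG⟩ : ↥(chevF4.group K)) = r * s := by rw [Subgroup.orderOf_mk, hxo]
  obtain ⟨g0, hg0⟩ := conj_into Q (fun a ha b hb => by
    rw [hQdef, Subgroup.mem_subgroupOf, F4_dat.S.ok.diagonalSubgroup_eq] at ha hb
    obtain ⟨c1, e1⟩ := ha
    obtain ⟨c2, e2⟩ := hb
    refine Subtype.ext ?_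
    show (a : GL chevF4.Idx K) * b = b * a
    rw [← e1, ← e2, ← map_mul, ← map_mul, mul_comm]) hr hs hrs (hidx hr hr3 hQr) (hidx hs hs3 hQs)
    (hxo' ▸ pow_orderOf_eq_one (⟨x, hxG⟩ : ↥(chevF4.group K)))
  rw [hQdef, Subgroup.mem_subgroupOf, F4_dat.S.ok.diagonalSubgroup_eq] at hg0
  obtain ⟨c, hc⟩ := hg0
  set g : GL chevF4.Idx K := (g0 : GL chevF4.Idx K) with hgdef
  have hg : g ∈ chevF4.group K := g0.2
  set t := Ok.tG chevF4 K c with htdef
  have hx : x = g * t * g⁻¹ := by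
    rw [hc]
    simp only [Subgroup.coe_mul, Subgroup.coe_inv, hgdef]
    group
  have hco : orderOf c = r * s := by
    rw [← orderOf_injective _ hinj c, ← htdef, ← hxo, hx,
      show g * t * g⁻¹ = MulAut.conj g t from rfl, MulEquiv.orderOf_eq]
  set h := g⁻¹ * phiG σ chevF4 g with hhdef
  have hh : h ∈ chevF4.group K := mul_mem (inv_mem hg) (phiG_group σ F4_dat.S hg)
  have hσt : ∀ a : Fin chevF4.rank → Kˣ, phiG σ chevF4 (Ok.tG chevF4 K a) = Ok.tG chevF4 K (a ^ q) := fun a => by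
    rw [phiG_tG]
    exact congrArg _ (funext fun i => Units.ext (by simp [hσ]))
  have hσext : ∀ y : GL chevF4.Idx F, phiG σ chevF4 (ext chevF4 F K y) = ext chevF4 F K y := fun y =>
    (phiG_eq_self σ).2 fun i j => hσF _
  have hht : h * Ok.tG chevF4 K (c ^ q) = t * h := by
    have h1 : phiG σ chevF4 g * Ok.tG chevF4 K (c ^ q) * (phiG σ chevF4 g)⁻¹ = g * t * g⁻¹ := by
      rw [← hσt, ← map_inv, ← map_mul, ← map_mul, ← hx, hxdef, hσext]
    calc h * Ok.tG chevF4 K (c ^ q)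
        = g⁻¹ * (phiG σ chevF4 g * Ok.tG chevF4 K (c ^ q) * (phiG σ chevF4 g)⁻¹) * phiG σ chevF4 g := by
          rw [hhdef]; group
      _ = t * h := by rw [h1, hhdef]; group
  obtain ⟨w, hw, hwchi, -⟩ := F4_dat.transfer hh hht
  have hαM : star (Mz F4_dat.S F4.htTab w) (F4_dat.al c) = F4_dat.al c ^ (q : ℤ) := by
    funext j
    rw [F4_dat.star_al, hwchi (F4_dat.S.sp j), F4_dat.al_pow, _root_.zpow_natCast]
    rfl
  have main : ∀ (m u : ℕ), m.Prime → m ∣ Fintype.card K - 1 → u.Prime → u ≠ m → r * s = m * u →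
      ∀ (cc : ℤ), (q : ZMod m) ^ 2 + (cc : ZMod m) * (q : ZMod m) + 1 = 0 →
        (m : ℤ) ∣ (cyc cc (MW w)).det := by
    intro m u hm hmK hu hum hmu cc hcc
    haveI := Fact.mk hm
    set α := F4_dat.al (c ^ u) with hα
    have hαM' : star (Mz F4_dat.S F4.htTab w) α = α ^ (q : ℤ) := by
      rw [hα, map_pow, map_pow, hαM]
      rw [_root_.zpow_natCast, _root_.zpow_natCast, ← pow_mul, ← pow_mul, mul_comm]
    have hαm : ∀ j, α j ^ m = 1 := fun j => by
      have : α ^ m = 1 := by rw [hα, ← map_pow, ← pow_mul, mul_comm, ← hmu, ← hco, pow_orderOf_eq_one, map_one]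
      exact congrFun this j
    have hα1 : α ≠ 1 := fun h1 => by
      have h2 : c ^ u = 1 := F4_dat.al_injective hker (h1.trans (map_one F4_dat.al).symm)
      have h3 := orderOf_dvd_of_pow_eq_one h2
      rw [hco, hmu] at h3
      have := Nat.le_of_dvd hu.pos h3
      have := hm.two_le
      nlinarith [hu.pos]
    obtain ⟨ζ, hζ, hlog⟩ := exists_log (ι := Fin chevF4.rank) (H := Kˣ) (d := m)
      (by rw [Nat.card_units, Nat.card_eq_fintype_card]; exact hmK)
    obtain ⟨kk, hkk⟩ := hlog α hαm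
    set k' : Fin chevF4.rank → ZMod m := fun j => (kk j : ZMod m) with hk'
    have hk0 : k' ≠ 0 := fun h1 => hα1 (funext fun j => by
      rw [hkk j]
      exact orderOf_dvd_iff_pow_eq_one.1 (hζ.symm ▸ (ZMod.natCast_eq_zero_iff _ _).1 (congrFun h1 j)))
    have hkM : red m (Mz F4_dat.S F4.htTab w) *ᵥ k' = (q : ZMod m) • k' := by
      have h1 : star (Matrix.scalar (Fin chevF4.rank) (q : ℤ) - Mz F4_dat.S F4.htTab w) (fun j => ζ ^ kk j) = 1 := by
        rw [← funext hkk, Springer.star_sub, Springer.star_scalar, hαM', div_self']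
      have h2 := (star_zeta _ hζ kk).1 h1
      rw [map_sub, sub_mulVec, sub_eq_zero,
        show Matrix.scalar (Fin chevF4.rank) (q : ℤ) = algebraMap ℤ _ (q : ℤ) from rfl, AlgHom.commutes,
        Algebra.algebraMap_eq_smul_one, smul_mulVec, one_mulVec, ← Int.cast_smul_eq_zsmul (ZMod m),
        Int.cast_natCast] at h2
      exact h2.symm
    exact dvd_det (MW w) hcc (v := k') hk0 hkM
  rcases hkl with ⟨rfl, rfl⟩ | ⟨rfl, rfl⟩ | ⟨rfl, rfl⟩
  · exact not_both hw (c := 1) (d := 0) (Or.inl ⟨rfl, rfl⟩) hr hs hr3 hs3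
      (main r s hr hQr hs hrs.symm rfl 1 (cyc_zero hk (Or.inl ⟨rfl, rfl⟩)))
      (main s r hs hQs hr hrs (mul_comm r s) 0 (cyc_zero hl (Or.inr (Or.inl ⟨rfl, rfl⟩))))
  · exact not_both hw (c := 1) (d := -1) (Or.inr (Or.inl ⟨rfl, rfl⟩)) hr hs hr3 hs3
      (main r s hr hQr hs hrs.symm rfl 1 (cyc_zero hk (Or.inl ⟨rfl, rfl⟩)))
      (main s r hs hQs hr hrs (mul_comm r s) (-1) (cyc_zero hl (Or.inr (Or.inr ⟨rfl, rfl⟩))))
  · exact not_both hw (c := 0) (d := -1) (Or.inr (Or.inr ⟨rfl, rfl⟩)) hr hs hr3 hs3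
      (main r s hr hQr hs hrs.symm rfl 0 (cyc_zero hk (Or.inr (Or.inl ⟨rfl, rfl⟩))))
      (main s r hs hQs hr hrs (mul_comm r s) (-1) (cyc_zero hl (Or.inr (Or.inr ⟨rfl, rfl⟩))))

end Cfsg.Lib.F4Graph
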